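import Cfsg.Agent.Lib.Fusion.System.SimpleSmallTwo
import Cfsg.Agent.Lib.Invol.SylowGLTwo
import Mathlib.LinearAlgebra.Matrix.ProjectiveSpecialLinearGroup

/-!
# The 2-fusion system of `PSL₃(q)`, `q` odd
-/

set_option autoImplicit false
set_option linter.style.haveILetI false

open Matrix
open scoped MatrixGroups

namespace CfsgLib.PSLThreeTwo

variable {F : Type*} [Field F]

/-! ### `GL₂` inside `SL₃` -/

/-- `A ↦ diag (A, det A⁻¹)`. -/
def block (A : GL (Fin 2) F) : Matrix (Fin 3) (Fin 3) F :=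
  !![(A : Matrix (Fin 2) (Fin 2) F) 0 0, (A : Matrix (Fin 2) (Fin 2) F) 0 1, 0;
     (A : Matrix (Fin 2) (Fin 2) F) 1 0, (A : Matrix (Fin 2) (Fin 2) F) 1 1, 0;
     0, 0, ((A : Matrix (Fin 2) (Fin 2) F).det)⁻¹]

theorem det_ne_zero (A : GL (Fin 2) F) : (A : Matrix (Fin 2) (Fin 2) F).det ≠ 0 :=
  (Matrix.GeneralLinearGroup.det A).ne_zero

theorem det_block (A : GL (Fin 2) F) : (block A).det = 1 := by
  have h := det_ne_zero A
  rw [Matrix.det_fin_two] at h
  rw [Matrix.det_fin_three]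
  simp [block, Matrix.det_fin_two, Matrix.vecHead, Matrix.vecTail]
  field_simp

theorem block_mul (A B : GL (Fin 2) F) : block (A * B) = block A * block B := by
  ext i j
  fin_cases i <;> fin_cases j <;>
    simp [block, Matrix.mul_apply, Fin.sum_univ_three, Fin.sum_univ_two, mul_comm]

/-- The embedding of `GL₂` in `SL₃`. -/
def toSL : GL (Fin 2) F →* Matrix.SpecialLinearGroup (Fin 3) F where
  toFun A := ⟨block A, det_block A⟩
  map_one' := by
    ext i j
    fin_cases i <;> fin_cases j <;> simp [block]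
  map_mul' A B := Subtype.ext (block_mul A B)

/-- The induced map to `PSL₃`. -/
def toPSL : GL (Fin 2) F →* Matrix.ProjectiveSpecialLinearGroup (Fin 3) F :=
  (QuotientGroup.mk' _).comp toSL

theorem toPSL_ker {A : GL (Fin 2) F} (h : toPSL A = 1) : A ^ 3 = 1 := by
  have h1 : toSL A ∈ Subgroup.center (Matrix.SpecialLinearGroup (Fin 3) F) :=
    (QuotientGroup.eq_one_iff _).1 h
  obtain ⟨r, hr, he⟩ := (Matrix.SpecialLinearGroup.mem_center_iff).1 h1
  have e : ∀ i j, Matrix.scalar (Fin 3) r i j = block A i j := fun i j => congrFun (congrFun he i) j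
  apply Units.ext
  have hA : (A : Matrix (Fin 2) (Fin 2) F) = Matrix.scalar (Fin 2) r := by
    ext i j
    fin_cases i <;> fin_cases j
    · simpa [block] using (e 0 0).symm
    · simpa [block] using (e 0 1).symm
    · simpa [block] using (e 1 0).symm
    · simpa [block] using (e 1 1).symm
  rw [Units.val_pow_eq_pow_val, hA, ← map_pow, Units.val_one]
  rw [show r ^ 3 = 1 by simpa using hr, map_one]

theorem eq_one_of_toPSL {A : GL (Fin 2) F} {k : ℕ} (h : toPSL A = 1) (hk : A ^ 2 ^ k = 1) :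
    A = 1 := by
  have h3 := toPSL_ker h
  have : A ^ (Nat.gcd 3 (2 ^ k)) = 1 := pow_gcd_eq_one.2 ⟨h3, hk⟩
  rwa [Nat.Coprime.gcd_eq_one ((Nat.Coprime.pow_right k (by norm_num : Nat.Coprime 3 2))),
    pow_one] at this

/-- Fusing two images through a matrix of determinant one. -/
theorem exists_conj_of_eq {X Y : Matrix.SpecialLinearGroup (Fin 3) F} {M : Matrix (Fin 3) (Fin 3) F}
    (hM : M.det = 1) (h : M * (X : Matrix (Fin 3) (Fin 3) F) = (Y : Matrix (Fin 3) (Fin 3) F) * M) :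
    ∃ g : Matrix.ProjectiveSpecialLinearGroup (Fin 3) F,
      g * QuotientGroup.mk X * g⁻¹ = QuotientGroup.mk Y := by
  refine ⟨QuotientGroup.mk ⟨M, hM⟩, ?_⟩
  let N : Matrix.SpecialLinearGroup (Fin 3) F := ⟨M, hM⟩
  have e : N * X = Y * N := Subtype.ext h
  show QuotientGroup.mk N * QuotientGroup.mk X * (QuotientGroup.mk N)⁻¹ = _
  rw [← QuotientGroup.mk_inv, ← QuotientGroup.mk_mul, ← QuotientGroup.mk_mul, e,
    mul_inv_cancel_right]

/-- Conjugate elements of `GL₂` have conjugate images. -/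
theorem isConj_toPSL {A B : GL (Fin 2) F} (h : IsConj A B) : IsConj (toPSL A) (toPSL B) :=
  MonoidHom.map_isConj (toPSL (F := F)) h

/-! ### Classes in `GL₂` -/

/-- A matrix with a pair of columns `P` on which `A` acts as `D`. -/
theorem isConj_of_cols {A : GL (Fin 2) F} (D : GL (Fin 2) F) {P : Matrix (Fin 2) (Fin 2) F}
    (hP : P.det ≠ 0) (h : (A : Matrix (Fin 2) (Fin 2) F) * P = P * (D : Matrix (Fin 2) (Fin 2) F)) :
    IsConj D A := by
  refine isConj_iff.2 ⟨Matrix.GeneralLinearGroup.mkOfDetNeZero P hP, ?_⟩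
  rw [mul_inv_eq_iff_eq_mul]
  exact Units.ext h.symm

variable (F) in
/-- `diag (1, -1)`. -/
def refl : GL (Fin 2) F := Matrix.GeneralLinearGroup.mkOfDetNeZero !![1, 0; 0, -1]
  (by simp [Matrix.det_fin_two])

variable (F) in
/-- A rotation of order four. -/
def rot : GL (Fin 2) F := Matrix.GeneralLinearGroup.mkOfDetNeZero !![0, -1; 1, 0]
  (by simp [Matrix.det_fin_two])

theorem mulVec_cols (P : Matrix (Fin 2) (Fin 2) F) (v : Fin 2 → F) (i : Fin 2) :
    (P *ᵥ v) i = P i 0 * v 0 + P i 1 * v 1 := by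
  simp [Matrix.mulVec, dotProduct, Fin.sum_univ_two]

/-- An involution other than `-1` is a reflection. -/
theorem isConj_refl (h2 : (2 : F) ≠ 0) {A : GL (Fin 2) F} (hsq : A * A = 1) (h1 : A ≠ 1)
    (hm1 : A ≠ -1) : IsConj (refl F) A := by
  set a := (A : Matrix (Fin 2) (Fin 2) F) with ha
  have haa : a * a = 1 := by rw [ha, ← Units.val_mul, hsq, Units.val_one]
  have hp : ∃ v : Fin 2 → F, v + a *ᵥ v ≠ 0 := by
    by_contra hc
    push Not at hc
    refine hm1 (Units.ext ?_)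
    rw [Units.val_neg, Units.val_one]
    refine Matrix.toLin'.injective (LinearMap.ext fun v => ?_)
    rw [Matrix.toLin'_apply, Matrix.toLin'_apply, Matrix.neg_mulVec, Matrix.one_mulVec]
    exact (eq_neg_of_add_eq_zero_right (hc v))
  have hm : ∃ v : Fin 2 → F, v - a *ᵥ v ≠ 0 := by
    by_contra hc
    push Not at hc
    refine h1 (Units.ext ?_)
    rw [Units.val_one]
    refine Matrix.toLin'.injective (LinearMap.ext fun v => ?_)
    rw [Matrix.toLin'_apply, Matrix.toLin'_apply, Matrix.one_mulVec]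
    exact (sub_eq_zero.1 (hc v)).symm
  obtain ⟨v, hv⟩ := hp
  obtain ⟨w, hw⟩ := hm
  set u := v + a *ᵥ v with hu
  set s := w - a *ᵥ w with hs
  have hau : a *ᵥ u = u := by
    rw [hu, Matrix.mulVec_add, Matrix.mulVec_mulVec, haa, Matrix.one_mulVec, add_comm]
  have has : a *ᵥ s = -s := by
    rw [hs, Matrix.mulVec_sub, Matrix.mulVec_mulVec, haa, Matrix.one_mulVec, neg_sub]
  let P : Matrix (Fin 2) (Fin 2) F := Matrix.of fun i j => ![u, s] j i
  have hPv : ∀ c : Fin 2 → F, P *ᵥ c = c 0 • u + c 1 • s := fun c => by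
    funext i
    rw [mulVec_cols]
    simp [P, mul_comm]
  refine isConj_of_cols (refl F) (P := P) ?_ ?_
  · intro h0
    obtain ⟨c, hc, e⟩ := Matrix.exists_mulVec_eq_zero_iff.2 h0
    rw [hPv] at e
    have e2 := congrArg (fun v => a *ᵥ v) e
    simp only [Matrix.mulVec_add, Matrix.mulVec_smul, hau, has, Matrix.mulVec_zero, smul_neg] at e2
    have e3 : (2 * c 0) • u = 0 := by
      calc (2 * c 0) • u = (c 0 • u + c 1 • s) + (c 0 • u + -(c 1 • s)) := by module
        _ = 0 := by rw [e, e2, add_zero]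
    have hc0 : c 0 = 0 := by
      rcases smul_eq_zero.1 e3 with h | h
      · exact (mul_eq_zero.1 h).resolve_left h2
      · exact absurd h hv
    rw [hc0, zero_smul, zero_add] at e
    have hc1 : c 1 = 0 := (smul_eq_zero.1 e).resolve_right hw
    exact hc (funext fun i => by fin_cases i <;> assumption)
  · ext i j
    have e1 := congrFun hau i
    have e2 := congrFun has i
    rw [mulVec_cols] at e1 e2
    fin_cases j <;> simp [P, refl, Matrix.mul_apply, Fin.sum_univ_two]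
    · exact e1
    · exact e2

/-- With `-1` a nonsquare, a square root of `-1` is a rotation. -/
theorem isConj_rot (hns : ¬ IsSquare (-1 : F)) {A : GL (Fin 2) F} (hsq : A * A = -1) :
    IsConj (rot F) A := by
  set a := (A : Matrix (Fin 2) (Fin 2) F) with ha
  have haa : a * a = -1 := by rw [ha, ← Units.val_mul, hsq, Units.val_neg, Units.val_one]
  set u : Fin 2 → F := ![1, 0] with hu
  set s := a *ᵥ u with hs
  have has : a *ᵥ s = -u := by
    rw [hs, Matrix.mulVec_mulVec, haa, Matrix.neg_mulVec, Matrix.one_mulVec]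
  have hu0 : u ≠ 0 := fun h => one_ne_zero (α := F) (by simpa [hu] using congrFun h 0)
  let P : Matrix (Fin 2) (Fin 2) F := Matrix.of fun i j => ![u, s] j i
  have hPv : ∀ c : Fin 2 → F, P *ᵥ c = c 0 • u + c 1 • s := fun c => by
    funext i
    rw [mulVec_cols]
    simp [P, mul_comm]
  refine isConj_of_cols (rot F) (P := P) ?_ ?_
  · intro h0
    obtain ⟨c, hc, e⟩ := Matrix.exists_mulVec_eq_zero_iff.2 h0
    rw [hPv] at e
    have e2 := congrArg (fun v => a *ᵥ v) e
    simp only [Matrix.mulVec_add, Matrix.mulVec_smul, has, ← hs, Matrix.mulVec_zero, smul_neg] at e2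
    have e3 : (c 0 * c 0 + c 1 * c 1) • u = 0 := by
      calc (c 0 * c 0 + c 1 * c 1) • u
          = c 0 • (c 0 • u + c 1 • s) - c 1 • (c 0 • s + -(c 1 • u)) := by module
        _ = 0 := by rw [e, e2, smul_zero, smul_zero, sub_zero]
    have h3 := (smul_eq_zero.1 e3).resolve_right hu0
    by_cases hc1 : c 1 = 0
    · rw [hc1, mul_zero, add_zero, mul_self_eq_zero] at h3
      exact hc (funext fun i => by fin_cases i <;> assumption)
    · exact hns ⟨c 0 / c 1, by field_simp; linear_combination -h3⟩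
  · ext i j
    have e1 : a i 0 * u 0 + a i 1 * u 1 = s i := by rw [← mulVec_cols]
    have e2 := congrFun has i
    rw [mulVec_cols] at e2
    fin_cases j <;> simp [P, rot, Matrix.mul_apply, Fin.sum_univ_two]
    · exact e1
    · exact e2

/-- With `-1` a nonsquare every element of order four squares to `-1`. -/
theorem sq_eq_neg_one (h2 : (2 : F) ≠ 0) (hns : ¬ IsSquare (-1 : F)) {A : GL (Fin 2) F}
    (ho : orderOf A = 4) : A * A = -1 := by
  by_contra hne
  have h4 : A * A * (A * A) = 1 := by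
    rw [show A * A * (A * A) = A ^ 4 by simp [pow_succ, mul_assoc], ← ho, pow_orderOf_eq_one]
  have h1 : A * A ≠ 1 := fun e => by
    have := orderOf_dvd_of_pow_eq_one (n := 2) (by rw [pow_two, e] : A ^ 2 = 1)
    rw [ho] at this; omega
  obtain ⟨g, hg⟩ := isConj_iff.1 (isConj_refl h2 h4 h1 hne).symm
  set B := g * A * g⁻¹ with hB
  have hBB : B * B = refl F := by rw [hB, ← hg]; group
  set b := (B : Matrix (Fin 2) (Fin 2) F) with hb
  have hbb : b * b = !![1, 0; 0, -1] := by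
    rw [hb, ← Units.val_mul, hBB]; rfl
  have e00 := congrFun (congrFun hbb 0) 0
  have e01 := congrFun (congrFun hbb 0) 1
  have e10 := congrFun (congrFun hbb 1) 0
  have e11 := congrFun (congrFun hbb 1) 1
  simp [Matrix.mul_apply, Fin.sum_univ_two] at e00 e01 e10 e11
  by_cases hs : b 0 0 + b 1 1 = 0
  · have hz : (2 : F) = 0 := by
      have : b 1 1 = -b 0 0 := by linear_combination hs
      rw [this] at e11
      linear_combination e11 - e00
    exact h2 hz
  · have h01 : b 0 1 = 0 := (mul_eq_zero.1 (by linear_combination e01 :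
      b 0 1 * (b 0 0 + b 1 1) = 0)).resolve_right hs
    exact hns ⟨b 1 1, by rw [h01] at e11; linear_combination -e11⟩

/-! ### Fusion of the images -/

theorem isConj_toPSL_neg_refl : IsConj (toPSL (-1 : GL (Fin 2) F)) (toPSL (refl F)) := by
  obtain ⟨g, hg⟩ := exists_conj_of_eq (X := toSL (-1 : GL (Fin 2) F)) (Y := toSL (refl F))
    (M := !![0, 0, 1; 1, 0, 0; 0, 1, 0]) (by simp [Matrix.det_fin_three]) (by
      show _ * block (-1 : GL (Fin 2) F) = block (refl F) * _
      ext i j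
      fin_cases i <;> fin_cases j <;>
        simp [block, refl, Matrix.mul_apply, Fin.sum_univ_three, Matrix.det_fin_two])
  exact isConj_iff.2 ⟨g, hg⟩

theorem isConj_toPSL_invol (h2 : (2 : F) ≠ 0) {A : GL (Fin 2) F} (hsq : A * A = 1) (h1 : A ≠ 1) :
    IsConj (toPSL (refl F)) (toPSL A) := by
  by_cases hm : A = -1
  · rw [hm]; exact isConj_toPSL_neg_refl.symm
  · exact isConj_toPSL (isConj_refl h2 hsq h1 hm)

/-! ### Orders -/

theorem odd_card_center [Fintype F] :
    Odd (Nat.card (Subgroup.center (Matrix.SpecialLinearGroup (Fin 3) F))) := by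
  rw [← Nat.not_even_iff_odd, even_iff_two_dvd]
  intro h
  haveI : Fact (Nat.Prime 2) := ⟨Nat.prime_two⟩
  obtain ⟨⟨Z, hZ⟩, hz⟩ := exists_prime_orderOf_dvd_card' 2 h
  rw [Subgroup.orderOf_mk] at hz
  obtain ⟨r, hr, he⟩ := Matrix.SpecialLinearGroup.mem_center_iff.1 hZ
  have h3 : Z ^ 3 = 1 := Subtype.ext (by
    rw [Matrix.SpecialLinearGroup.coe_pow, ← he, ← map_pow, show r ^ 3 = 1 by simpa using hr, map_one]
    rfl)
  have := orderOf_dvd_of_pow_eq_one h3
  rw [hz] at this; omega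

theorem card_GL_three [Fintype F] : Nat.card (GL (Fin 3) F) =
    Nat.card (GL (Fin 2) F) * (Fintype.card F - 1) *
      (Fintype.card F ^ 2 * (Fintype.card F ^ 2 + Fintype.card F + 1)) := by
  classical
  rw [CfsgLib.Invol.card_GL_two_eq, Matrix.card_GL_field, Fin.prod_univ_three]
  simp only [Fin.val_zero, Fin.val_one, Fin.val_two, pow_zero, pow_one]
  obtain ⟨q, hq⟩ : ∃ q, Fintype.card F = q + 1 := ⟨Fintype.card F - 1, by
    have := Fintype.card_pos (α := F); omega⟩
  rw [hq, Nat.add_sub_cancel,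
    show (q + 1) ^ 3 - 1 = q * ((q + 1) ^ 2 + (q + 1) + 1) by
      rw [show (q + 1) ^ 3 = q * ((q + 1) ^ 2 + (q + 1) + 1) + 1 by ring, Nat.add_sub_cancel],
    show (q + 1) ^ 3 - (q + 1) = (q + 1) * (q * (q + 2)) by
      rw [show (q + 1) ^ 3 = (q + 1) * (q * (q + 2)) + (q + 1) by ring, Nat.add_sub_cancel],
    show (q + 1) ^ 3 - (q + 1) ^ 2 = (q + 1) ^ 2 * q by
      rw [show (q + 1) ^ 3 = (q + 1) ^ 2 * q + (q + 1) ^ 2 by ring, Nat.add_sub_cancel]]
  ring

theorem card_SL_mul [Fintype F] :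
    Nat.card (Matrix.SpecialLinearGroup (Fin 3) F) * (Fintype.card F - 1) = Nat.card (GL (Fin 3) F) := by
  classical
  let d : GL (Fin 3) F →* Fˣ := Matrix.GeneralLinearGroup.det
  have hd : Function.Surjective d := fun u => by
    refine ⟨Matrix.GeneralLinearGroup.mkOfDetNeZero (Matrix.diagonal ![(u : F), 1, 1]) (by
      simp [Fin.prod_univ_three]), Units.ext ?_⟩
    show Matrix.det (Matrix.diagonal ![(u : F), 1, 1]) = (u : F)
    simp [Fin.prod_univ_three]
  have e : Nat.card d.ker = Nat.card (Matrix.SpecialLinearGroup (Fin 3) F) := Nat.card_congr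
    { toFun := fun g => ⟨((g : GL (Fin 3) F) : Matrix (Fin 3) (Fin 3) F), congrArg Units.val g.2⟩
      invFun := fun X => ⟨Matrix.SpecialLinearGroup.toGL X, Units.ext X.2⟩
      left_inv := fun g => Subtype.ext (Units.ext rfl)
      right_inv := fun X => Subtype.ext rfl }
  have h1 := d.ker.card_mul_index
  rw [Subgroup.index_ker, MonoidHom.range_eq_top.2 hd, Subgroup.card_top, Nat.card_units,
    Nat.card_eq_fintype_card (α := F), e] at h1
  exact h1

theorem card_PSL_eq [Fintype F] (hodd : Fintype.card F % 2 = 1) :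
    ∃ o : ℕ, Odd o ∧ ∀ k r : ℕ, Nat.card (GL (Fin 2) F) = 2 ^ k * r → Odd r →
      ∃ r', Odd r' ∧ Nat.card (Matrix.ProjectiveSpecialLinearGroup (Fin 3) F) * o = 2 ^ k * r' := by
  set Z := Subgroup.center (Matrix.SpecialLinearGroup (Fin 3) F) with hZ
  refine ⟨Nat.card Z, odd_card_center, fun k r h hr => ?_⟩
  have hq : 1 < Fintype.card F := Fintype.one_lt_card
  refine ⟨r * (Fintype.card F ^ 2 * (Fintype.card F ^ 2 + Fintype.card F + 1)), hr.mul ?_, ?_⟩
  · rw [Nat.odd_iff, Nat.mul_mod, Nat.pow_mod]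
    simp [Nat.add_mod, Nat.pow_mod, hodd]
  · have h1 := Subgroup.card_eq_card_quotient_mul_card_subgroup Z
    have h2 := card_SL_mul (F := F)
    rw [h1, card_GL_three, h] at h2
    have := Nat.eq_of_mul_eq_mul_right (m := Fintype.card F - 1) (by omega)
      (h2.trans (by ring : _ = 2 ^ k * (r * (Fintype.card F ^ 2 *
        (Fintype.card F ^ 2 + Fintype.card F + 1))) * (Fintype.card F - 1)))
    exact this

theorem orderOf_toPSL {P : Subgroup (GL (Fin 2) F)} (hP : IsPGroup 2 P) {A : GL (Fin 2) F}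
    (hA : A ∈ P) : orderOf (toPSL A) = orderOf A := by
  obtain ⟨k, hk⟩ := hP ⟨A, hA⟩
  have hk' : A ^ 2 ^ k = 1 := congrArg Subtype.val hk
  refine Nat.dvd_antisymm (orderOf_map_dvd _ A) (orderOf_dvd_of_pow_eq_one ?_)
  refine eq_one_of_toPSL (k := k) (by rw [map_pow, pow_orderOf_eq_one]) ?_
  rw [← pow_mul, mul_comm, pow_mul, hk', one_pow]

/-- The image of a Sylow 2-subgroup of `GL₂` is Sylow in `PSL₃`. -/
theorem exists_sylow_image [Fintype F] (hodd : Fintype.card F % 2 = 1)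
    (P : Sylow 2 (GL (Fin 2) F)) :
    ∃ S : Sylow 2 (Matrix.ProjectiveSpecialLinearGroup (Fin 3) F),
      (S : Subgroup (Matrix.ProjectiveSpecialLinearGroup (Fin 3) F)) = (P : Subgroup (GL (Fin 2) F)).map toPSL ∧
      Nonempty ((P : Subgroup (GL (Fin 2) F)) ≃* (S : Subgroup (Matrix.ProjectiveSpecialLinearGroup (Fin 3) F))) := by
  classical
  haveI : Fact (Nat.Prime 2) := ⟨Nat.prime_two⟩
  set S₀ := (P : Subgroup (GL (Fin 2) F)).map toPSL with hS₀
  let f : (P : Subgroup (GL (Fin 2) F)) →* S₀ :=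
    (toPSL.comp (P : Subgroup (GL (Fin 2) F)).subtype).codRestrict S₀ fun a =>
      Subgroup.mem_map_of_mem _ a.2
  have hf : Function.Bijective f := by
    refine ⟨(injective_iff_map_eq_one f).2 fun a ha => ?_, ?_⟩
    · obtain ⟨k, hk⟩ := P.2 a
      exact Subtype.ext (eq_one_of_toPSL (k := k) (congrArg Subtype.val ha)
        (congrArg Subtype.val hk))
    · rintro ⟨_, a, ha, rfl⟩
      exact ⟨⟨a, ha⟩, rfl⟩
  let e := MulEquiv.ofBijective f hf
  have hp : IsPGroup 2 S₀ := P.2.of_equiv e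
  have hidx : ¬ 2 ∣ S₀.index := by
    intro h2
    obtain ⟨k, r, hr, hk⟩ := CfsgLib.Invol.exists_two_pow_mul_odd
      (a := Nat.card (GL (Fin 2) F)) Nat.card_pos.ne'
    obtain ⟨o, -, hall⟩ := card_PSL_eq hodd
    obtain ⟨r', hr', he⟩ := hall k r hk hr
    have hS : Nat.card S₀ = 2 ^ k := by
      rw [← Nat.card_congr e.toEquiv, CfsgLib.Invol.card_sylow_of_eq P hk hr]
    rw [← S₀.card_mul_index, hS, mul_assoc] at he
    have := Nat.eq_of_mul_eq_mul_left (Nat.two_pow_pos k) he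
    exact Nat.not_even_iff_odd.2 hr' (even_iff_two_dvd.2 (this ▸ h2.mul_right o))
  exact ⟨hp.toSylow hidx, rfl, ⟨e⟩⟩

/-! ### The two cases -/

theorem hinv_image (h2 : (2 : F) ≠ 0) {P : Subgroup (GL (Fin 2) F)} (hP : IsPGroup 2 P)
    {x y : Matrix.ProjectiveSpecialLinearGroup (Fin 3) F} (hx : x ∈ P.map toPSL) (hy : y ∈ P.map toPSL)
    (hx2 : orderOf x = 2) (hy2 : orderOf y = 2) : ∃ g, g * x * g⁻¹ = y := by
  obtain ⟨A, hA, rfl⟩ := hx
  obtain ⟨B, hB, rfl⟩ := hy
  rw [orderOf_toPSL hP hA] at hx2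
  rw [orderOf_toPSL hP hB] at hy2
  have key : ∀ C : GL (Fin 2) F, orderOf C = 2 → IsConj (toPSL (refl F)) (toPSL C) := fun C hC =>
    isConj_toPSL_invol h2 (by rw [← pow_two]; simpa [hC] using pow_orderOf_eq_one C) fun e => by
      rw [e, orderOf_one] at hC; omega
  exact isConj_iff.1 ((key A hx2).symm.trans (key B hy2))

theorem hasSimpleData_three [Fintype F] (h3 : Fintype.card F % 4 = 3) :
    ∃ S : Sylow 2 (Matrix.ProjectiveSpecialLinearGroup (Fin 3) F),
      CfsgLib.Fusion.HasSimpleData (S : Subgroup (Matrix.ProjectiveSpecialLinearGroup (Fin 3) F)) := by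
  classical
  haveI : Fact (Nat.Prime 2) := ⟨Nat.prime_two⟩
  have hodd : Fintype.card F % 2 = 1 := by omega
  have h2 : (2 : F) ≠ 0 := Ring.two_ne_zero fun h => by
    have := FiniteField.even_card_iff_char_two.1 h; omega
  have hns : ¬ IsSquare (-1 : F) := fun h => (FiniteField.isSquare_neg_one_iff.1 h) h3
  obtain ⟨P⟩ : Nonempty (Sylow 2 (GL (Fin 2) F)) := inferInstance
  obtain ⟨S, hS, ⟨e⟩⟩ := exists_sylow_image hodd P
  have hq : Cfsg.IsQuasiDihedral (S : Subgroup (Matrix.ProjectiveSpecialLinearGroup (Fin 3) F)) := by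
    obtain ⟨n, hn, hc, x, y, hx, hy, hxy⟩ := CfsgLib.Invol.isQuasiDihedral_GL_two P h3
    refine ⟨n, hn, by rw [← Nat.card_congr e.toEquiv, hc], e x, e y, ?_, ?_, ?_⟩
    · rw [MulEquiv.orderOf_eq, hx]
    · rw [MulEquiv.orderOf_eq, hy]
    · rw [← map_inv, ← map_mul, ← map_mul, hxy, map_pow]
  refine ⟨S, CfsgLib.Fusion.hasSimpleData_quasiDihedral S hq ?_ ?_⟩
  · rw [hS]; exact fun x y => hinv_image h2 P.2
  · rw [hS]
    intro x y hx hy hx4 hy4
    obtain ⟨A, hA, rfl⟩ := hx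
    obtain ⟨B, hB, rfl⟩ := hy
    rw [orderOf_toPSL P.2 hA] at hx4
    rw [orderOf_toPSL P.2 hB] at hy4
    exact isConj_iff.1 (isConj_toPSL ((isConj_rot hns (sq_eq_neg_one h2 hns hx4)).symm.trans
      (isConj_rot hns (sq_eq_neg_one h2 hns hy4))))

theorem hasSimpleData_one [Fintype F] (h1 : Fintype.card F % 4 = 1) :
    ∃ S : Sylow 2 (Matrix.ProjectiveSpecialLinearGroup (Fin 3) F),
      CfsgLib.Fusion.HasSimpleData (S : Subgroup (Matrix.ProjectiveSpecialLinearGroup (Fin 3) F)) := by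
  classical
  haveI : Fact (Nat.Prime 2) := ⟨Nat.prime_two⟩
  have hodd : Fintype.card F % 2 = 1 := by omega
  have h2 : (2 : F) ≠ 0 := Ring.two_ne_zero fun h => by
    have := FiniteField.even_card_iff_char_two.1 h; omega
  set q := Fintype.card F with hq
  have hq1 : 1 < q := Fintype.one_lt_card
  obtain ⟨n, s, hs, hns⟩ := CfsgLib.Invol.exists_two_pow_mul_odd (a := q - 1) (by omega)
  obtain ⟨r, hr, hr'⟩ : ∃ r, q + 1 = 2 * r ∧ Odd r :=
    ⟨(q + 1) / 2, by omega, Nat.odd_iff.2 (by omega)⟩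
  obtain ⟨ζ, hζ⟩ := CfsgLib.Invol.exists_unit_orderOf (K := F) (d := 2 ^ n)
    ⟨s, by rw [Nat.card_eq_fintype_card]; exact hns⟩
  let D : Fˣ × Fˣ →* GL (Fin 2) F :=
    { toFun := fun f => Matrix.GeneralLinearGroup.mkOfDetNeZero !![(f.1 : F), 0; 0, (f.2 : F)]
        (by simp [Matrix.det_fin_two])
      map_one' := Units.ext (by ext i j; fin_cases i <;> fin_cases j <;> simp)
      map_mul' := fun f g => Units.ext (by
        ext i j
        fin_cases i <;> fin_cases j <;> simp [Matrix.mul_apply, Fin.sum_univ_two]) }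
  have hD : Function.Injective D := fun f g e => by
    have e1 := congrFun (congrFun (congrArg (fun v : GL (Fin 2) F => (v : Matrix (Fin 2) (Fin 2) F)) e) 0) 0
    have e2 := congrFun (congrFun (congrArg (fun v : GL (Fin 2) F => (v : Matrix (Fin 2) (Fin 2) F)) e) 1) 1
    exact Prod.ext (Units.ext (by simpa [D] using e1)) (Units.ext (by simpa [D] using e2))
  let z : GL (Fin 2) F := Matrix.GeneralLinearGroup.mkOfDetNeZero !![0, 1; 1, 0]
    (by simp [Matrix.det_fin_two])
  have hzz : z * z = 1 := Units.ext (by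
    ext i j; fin_cases i <;> fin_cases j <;> simp [z, Matrix.mul_apply, Fin.sum_univ_two])
  have hzi : z⁻¹ = z := inv_eq_of_mul_eq_one_left hzz
  have hswap : ∀ f : Fˣ × Fˣ, z * D f * z⁻¹ = D (f.2, f.1) := fun f => by
    rw [hzi]
    apply Units.ext
    ext i j
    fin_cases i <;> fin_cases j <;> simp [z, D, Matrix.mul_apply, Fin.sum_univ_two]
  set U := ((Subgroup.zpowers ζ).prod (Subgroup.zpowers ζ)).map D with hU
  have hUc : Nat.card U = 2 ^ (2 * n) := by
    rw [hU, Subgroup.card_map_of_injective hD,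
      Nat.card_congr (Subgroup.prodEquiv _ _).toEquiv, Nat.card_prod, Nat.card_zpowers, hζ, two_mul,
      pow_add]
  have hmem : ∀ a b : Fˣ, a ∈ Subgroup.zpowers ζ → b ∈ Subgroup.zpowers ζ → D (a, b) ∈ U :=
    fun a b ha hb => Subgroup.mem_map_of_mem _ ⟨ha, hb⟩
  have hzU : z ∉ U := by
    rintro ⟨f, -, e⟩
    have e1 := congrFun (congrFun (congrArg (fun v : GL (Fin 2) F => (v : Matrix (Fin 2) (Fin 2) F)) e) 0) 1
    simp [z, D] at e1
  have hzn : z ∈ Subgroup.normalizer (U : Set (GL (Fin 2) F)) := by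
    have key : ∀ u ∈ U, z * u * z⁻¹ ∈ U := by
      rintro _ ⟨⟨a, b⟩, ⟨ha, hb⟩, rfl⟩
      rw [hswap]; exact hmem _ _ hb ha
    refine Subgroup.mem_normalizer_iff.2 fun u => ⟨key u, fun hu => ?_⟩
    have := key _ hu
    rwa [show z * (z * u * z⁻¹) * z⁻¹ = z * z * u * (z * z)⁻¹ by group, hzz, one_mul, inv_one,
      mul_one] at this
  have hz2 : orderOf z = 2 := orderOf_eq_prime (by rw [pow_two, hzz]) fun e => hzU (e ▸ one_mem U)
  have hp : IsPGroup 2 ↥(Subgroup.zpowers z ⊔ U) :=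
    IsPGroup.to_sup_of_normal_right' (IsPGroup.of_card (n := 1) (by rw [Nat.card_zpowers, hz2, pow_one]))
      (IsPGroup.of_card hUc) (Subgroup.zpowers_le.2 hzn)
  obtain ⟨P, hP⟩ := hp.exists_le_sylow
  have hPc : Nat.card (P : Subgroup (GL (Fin 2) F)) = 2 ^ (2 * n + 1) :=
    CfsgLib.Invol.card_sylow_of_eq P (r := s * s * r * q) (by
      rw [CfsgLib.Invol.card_GL_two_eq, ← hq, hns, hr]; ring)
      (((hs.mul hs).mul hr').mul (Nat.odd_iff.2 hodd))
  have hPeq : (P : Subgroup (GL (Fin 2) F)) = Subgroup.zpowers z ⊔ U := by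
    refine (Subgroup.eq_of_le_of_card_ge hP ?_).symm
    rw [hPc]
    obtain ⟨j, hj⟩ := hp.exists_card_eq
    have h3 : U < Subgroup.zpowers z ⊔ U :=
      lt_of_le_of_ne le_sup_right fun e => hzU (e ▸ Subgroup.mem_sup_left (Subgroup.mem_zpowers z))
    have h4 : Nat.card U < Nat.card ↥(Subgroup.zpowers z ⊔ U) := by
      refine lt_of_le_of_ne (Subgroup.card_le_of_le h3.le) fun e => h3.ne ?_
      exact Subgroup.eq_of_le_of_card_ge h3.le e.ge
    rw [hUc, hj, Nat.pow_lt_pow_iff_right (by norm_num)] at h4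
    rw [hj]
    exact Nat.pow_le_pow_right (by norm_num) h4
  set x := D (ζ, 1) with hx
  set y := D (1, ζ) with hy
  have hxU : x ∈ U := hmem _ _ (Subgroup.mem_zpowers ζ) (one_mem _)
  have hyx : z * x * z⁻¹ = y := hswap _
  have hgenU : U ≤ Subgroup.closure {x, z} := by
    rintro _ ⟨⟨a, b⟩, ⟨⟨i, hi⟩, ⟨j, hj⟩⟩, rfl⟩
    have hxm : x ∈ Subgroup.closure {x, z} := Subgroup.subset_closure (by simp)
    have hzm : z ∈ Subgroup.closure {x, z} := Subgroup.subset_closure (by simp)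
    have hym : y ∈ Subgroup.closure {x, z} := hyx ▸ mul_mem (mul_mem hzm hxm) (inv_mem hzm)
    have e : D (a, b) = x ^ i * y ^ j := by
      rw [hx, hy, ← map_zpow, ← map_zpow, ← map_mul]
      refine congrArg D (Prod.ext ?_ ?_) <;> simp_all
    rw [e]
    exact mul_mem (zpow_mem hxm i) (zpow_mem hym j)
  obtain ⟨S, hS, ⟨e⟩⟩ := exists_sylow_image hodd P
  have hw : Cfsg.IsWreathed (S : Subgroup (Matrix.ProjectiveSpecialLinearGroup (Fin 3) F)) := by
    obtain ⟨m, hm, hc, x', y', z', h1', h2', h3', h4', h5'⟩ := CfsgLib.Invol.isWreathed_GL_two P h1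
    refine ⟨m, hm, by rw [← Nat.card_congr e.toEquiv, hc], e x', e y', e z', ?_, ?_, ?_, ?_, ?_⟩
    · rw [MulEquiv.orderOf_eq, h1']
    · rw [← map_mul, h2', map_mul]
    · rw [eq_bot_iff]
      rintro _ ⟨⟨i, hi⟩, ⟨j, hj⟩⟩
      have h6 : x' ^ i ∈ Subgroup.zpowers x' ⊓ Subgroup.zpowers y' :=
        ⟨⟨i, rfl⟩, ⟨j, e.injective (by rw [map_zpow, map_zpow]; exact hj.trans hi.symm)⟩⟩
      rw [h3', Subgroup.mem_bot] at h6
      rw [Subgroup.mem_bot, ← hi]
      show e x' ^ i = 1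
      rw [← map_zpow, h6, map_one]
    · rw [MulEquiv.orderOf_eq, h4']
    · rw [← map_inv, ← map_mul, ← map_mul, h5']
  have hzP : z ∈ (P : Subgroup (GL (Fin 2) F)) :=
    hP (Subgroup.mem_sup_left (Subgroup.mem_zpowers z))
  have hxP : x ∈ (P : Subgroup (GL (Fin 2) F)) := hP (Subgroup.mem_sup_right hxU)
  refine ⟨S, CfsgLib.Fusion.hasSimpleData_wreathed S hw (by rw [hS]; exact fun u v => hinv_image h2 P.2)
    (x := toPSL x) (z := toPSL z) (hS ▸ Subgroup.mem_map_of_mem _ hxP)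
    (hS ▸ Subgroup.mem_map_of_mem _ hzP) (by rw [orderOf_toPSL P.2 hzP, hz2]) ?_ ?_⟩
  · rw [hS, hPeq, Subgroup.map_le_iff_le_comap]
    refine (sup_le (Subgroup.zpowers_le.2 (Subgroup.subset_closure (by simp))) hgenU).trans
      ((Subgroup.closure_le _).2 ?_)
    rintro u (rfl | rfl) <;> exact Subgroup.subset_closure (by simp)
  · rw [← map_inv, ← map_mul, ← map_mul, ← map_inv, ← map_mul, hyx, hx, hy, ← map_inv, ← map_mul,
      Prod.inv_mk, inv_one, Prod.mk_mul_mk, mul_one, one_mul]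
    refine exists_conj_of_eq (X := toSL (D (ζ, ζ⁻¹))) (Y := toSL (D (ζ, 1)))
      (M := !![-1, 0, 0; 0, 0, 1; 0, 1, 0]) (by simp [Matrix.det_fin_three]) ?_
    show _ * block (D (ζ, ζ⁻¹)) = block (D (ζ, 1)) * _
    ext i j
    fin_cases i <;> fin_cases j <;>
      simp [block, D, Matrix.mul_apply, Fin.sum_univ_three, Matrix.det_fin_two]

/-- The 2-fusion system of `PSL₃(q)`, `q` odd, is simple. -/
theorem isSimple [Fintype F] (hodd : Fintype.card F % 2 = 1)
    (S : Sylow 2 (Matrix.ProjectiveSpecialLinearGroup (Fin 3) F)) :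
    (Cfsg.groupFusionSystem (S : Subgroup (Matrix.ProjectiveSpecialLinearGroup (Fin 3) F))).IsSimple 2 := by
  classical
  haveI : Fact (Nat.Prime 2) := ⟨Nat.prime_two⟩
  rcases (by omega : Fintype.card F % 4 = 1 ∨ Fintype.card F % 4 = 3) with h | h
  · obtain ⟨P, hP⟩ := hasSimpleData_one h
    exact CfsgLib.Fusion.isSimple_group_of_data P hP S
  · obtain ⟨P, hP⟩ := hasSimpleData_three h
    exact CfsgLib.Fusion.isSimple_group_of_data P hP S

end CfsgLib.PSLThreeTwo
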